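import Groth.Agent.H47.Extend.Ideal
import Mathlib.AlgebraicGeometry.Morphisms.FinitePresentation

/-!
# The criterion for extending a section across a relative divisor
-/

set_option autoImplicit false
set_option linter.style.haveILetI false
set_option backward.isDefEq.respectTransparency false

universe u

open CategoryTheory CategoryTheory.Limits AlgebraicGeometry TopologicalSpace Opposite
open Groth.Agent.Lib Groth.Agent.Lib.Ideal.EffCartier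

namespace Groth.Agent.H47.Extend

noncomputable section

variable {P Y : Scheme.{u}} {Q : P.Opens} (p : Y ⟶ P) (s : (Q : Scheme.{u}) ⟶ Y) (hs : s ≫ p = Q.ι)
  (I : P.IdealSheafData) (hQ : Q = I.support.compl) [IsAffineHom p]
  {P' : Scheme.{u}} (pr : P' ⟶ P) (hI' : BlowUp.IsEffCartierIdeal (I.comap pr))

/-- The rule computing a function pulled back to the open part. -/
theorem appLE_B {A : P'.Opens} {W : P.Opens} (e : A ≤ pr ⁻¹ᵁ W)
    (eK : (⊤ : (A ⊓ pr ⁻¹ᵁ Q).toScheme.Opens) ≤ kB pr (A ⊓ pr ⁻¹ᵁ Q) inf_le_right ⁻¹ᵁ (Q.ι ⁻¹ᵁ W))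
    (r : Γ(P, W)) :
    (A ⊓ pr ⁻¹ᵁ Q).ι.appLE A ⊤ (fun (z : (A ⊓ pr ⁻¹ᵁ Q).toScheme) _ => z.2.1) (pr.appLE W A e r) =
      (kB pr (A ⊓ pr ⁻¹ᵁ Q) inf_le_right).appLE (Q.ι ⁻¹ᵁ W) ⊤ eK (ρW (Q := Q) W r) := by
  rw [← CommRingCat.comp_apply, ← CommRingCat.comp_apply, Scheme.Hom.appLE_comp_appLE, ρW,
    Scheme.Hom.appLE_comp_appLE]
  exact congr($(appLE_congr_hom (kB_ι pr _ inf_le_right) _ _ _).hom r)

theorem eK_of_le {A : P'.Opens} {W : P.Opens} (e : A ≤ pr ⁻¹ᵁ W) :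
    (⊤ : (A ⊓ pr ⁻¹ᵁ Q).toScheme.Opens) ≤ kB pr (A ⊓ pr ⁻¹ᵁ Q) inf_le_right ⁻¹ᵁ (Q.ι ⁻¹ᵁ W) := by
  rw [← Scheme.Hom.comp_preimage, ← kB_ι pr _ inf_le_right]
  exact fun x _ => e x.2.1

variable (hI : BlowUp.IsEffCartierIdeal I) (J : P.IdealSheafData)

include hI' in
/-- An extension kills the obstruction. -/
theorem comap_K_le_of_ext (h : Ext p s pr) : (K p s hs J I hQ hI).comap pr ≤ J.comap pr := by
  obtain ⟨f', hf, hk⟩ := h
  let κ := {A : P'.affineOpens // ∃ W : P.affineOpens, A.1 ≤ pr ⁻¹ᵁ W.1}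
  refine Scheme.IdealSheafData.le_of_iSup_eq_top (fun A : κ => A.1)
    (eq_top_iff.2 fun x _ => ?_) fun A => ?_
  · obtain ⟨W, A, -, hxA, -, -, hle⟩ := Lib.Ideal.Comap.exists_affine_le_preimage pr x (W := ⊤) trivial
      (U := ⊤) trivial
    exact Opens.mem_iSup.2 ⟨⟨A, W, hle⟩, hxA⟩
  obtain ⟨⟨A, hA⟩, W, hle⟩ := A
  rw [Lib.Ideal.Comap.ideal_comap pr _ W ⟨A, hA⟩ hle, Lib.Ideal.Comap.ideal_comap pr _ W ⟨A, hA⟩ hle]
  refine Ideal.map_le_iff_le_comap.2 (Ideal.span_le.2 ?_)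
  rintro a ⟨c, hc, y, hy⟩
  have e' : A ≤ f' ⁻¹ᵁ (p ⁻¹ᵁ W.1) := by rw [← Scheme.Hom.comp_preimage, hf]; exact hle
  have key : pr.appLE W.1 A hle a = pr.appLE W.1 A hle c * f'.appLE (p ⁻¹ᵁ W.1) A e' y := by
    refine appLE_injective I hQ pr hI' A ?_
    have eK := eK_of_le pr (Q := Q) hle
    rw [map_mul, appLE_B pr hle eK, appLE_B pr hle eK, show ρW W.1 a = _ from hy, map_mul]
    congr 1
    rw [σW, ← CommRingCat.comp_apply, ← CommRingCat.comp_apply, Scheme.Hom.appLE_comp_appLE,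
      Scheme.Hom.appLE_comp_appLE]
    exact congr($(appLE_congr_hom (hk _ _ _ (kB_ι pr _ inf_le_right)).symm _ _ _).hom y)
  show pr.appLE W.1 A hle a ∈ Ideal.map (pr.appLE W.1 A hle).hom (J.ideal W)
  rw [key]
  exact Ideal.mul_mem_right _ _ (Ideal.mem_map_of_mem _ hc)

/-- Generators of the target over `W` whose values extend after multiplying by `h ^ n`. -/
def IsData (n : ℕ) (W : P.affineOpens) (h : Γ(P, W.1)) : Prop :=
  I.ideal W = Ideal.span {h} ∧ ∃ G : Set Γ(Y, p ⁻¹ᵁ W.1),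
    Subring.closure (Set.range (p.app W.1) ∪ G) = ⊤ ∧ ∀ y ∈ G, ∃ a, Rel p s hs W.1 a (h ^ n) y

include hI' hQ in
/-- Vanishing of the obstruction gives an extension. -/
theorem ext_of_comap_K_le (n : ℕ) (hdata : ∀ x : P', ∃ W h, pr x ∈ (W : P.affineOpens).1 ∧ IsData p s hs I n W h)
    (hle : (K p s hs (I ^ n) I hQ hI).comap pr ≤ (I ^ n).comap pr) : Ext p s pr := by
  choose W h hxW hd using hdata
  have hA : ∀ x : P', ∃ A : P'.affineOpens, x ∈ A.1 ∧ A.1 ≤ pr ⁻¹ᵁ (W x).1 := fun x => by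
    obtain ⟨A, hA, hxA, hle⟩ := exists_isAffineOpen_mem_and_subset (show x ∈ pr ⁻¹ᵁ (W x).1 from hxW x)
    exact ⟨⟨A, hA⟩, hxA, hle⟩
  choose A hxA hAW using hA
  refine ext_of_cover p s I hQ pr hI' (fun x => (A x).1) (fun x => ⟨x, hxA x⟩) fun x => ?_
  obtain ⟨hspan, G, hG, hGa⟩ := hd x
  let Wx := W x
  let V := p ⁻¹ᵁ Wx.1
  have hV : IsAffineOpen V := Wx.2.preimage p
  let B : P'.Opens := (A x).1 ⊓ pr ⁻¹ᵁ Q
  let k : (B : Scheme.{u}) ⟶ Q := kB pr B inf_le_right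
  have eK := eK_of_le pr (Q := Q) (hAW x)
  let ν : Γ(Y, V) →+* Γ(B.toScheme, ⊤) := (σW p s hs Wx.1 ≫ k.appLE (Q.ι ⁻¹ᵁ Wx.1) ⊤ eK).hom
  let ρ : Γ(P', (A x).1) →+* Γ(B.toScheme, ⊤) := (B.ι.appLE (A x).1 ⊤ (fun (z : B.toScheme) _ => z.2.1)).hom
  have hρ : Function.Injective ρ := appLE_injective I hQ pr hI' (A x).1
  let π : Γ(P, Wx.1) →+* Γ(P', (A x).1) := (pr.appLE Wx.1 (A x).1 (hAW x)).hom
  have hνπ : ∀ r, ν (p.app Wx.1 r) = ρ (π r) := fun r =>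
    (congrArg (k.appLE (Q.ι ⁻¹ᵁ Wx.1) ⊤ eK) (σW_app p s hs Wx.1 r)).trans (appLE_B pr (hAW x) eK r).symm
  have hunit : IsUnit (ρW (Q := Q) Wx.1 (h x)) := by
    have hsub : Q.ι ''ᵁ (Q.ι ⁻¹ᵁ Wx.1) ≤ P.basicOpen (h x) := by
      rintro _ ⟨z, hz, rfl⟩
      by_contra hcon
      refine (SetLike.ext_iff.1 hQ (Q.ι z)).1 z.2
        ((Scheme.IdealSheafData.mem_support_iff_of_mem (show Q.ι z ∈ Wx.1 from hz)).2 ?_)
      rw [show I.ideal Wx = _ from hspan, Ideal.span, P.zeroLocus_span, Scheme.mem_zeroLocus_iff]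
      intro f hf
      rw [Set.mem_singleton_iff.1 hf]
      exact hcon
    have := (RingedSpace.isUnit_res_basicOpen P.toLocallyRingedSpace.toRingedSpace (h x)).map
      (P.presheaf.map (homOfLE hsub).op).hom
    have e0 : ρW (Q := Q) Wx.1 (h x) = P.presheaf.map (homOfLE hsub).op
        (P.presheaf.map (homOfLE (P.basicOpen_le (h x))).op (h x)) := by
      show Q.ι.appLE Wx.1 (Q.ι ⁻¹ᵁ Wx.1) le_rfl (h x) = _
      rw [Scheme.Opens.ι_appLE]
      exact congr($(P.presheaf.map_comp (homOfLE (P.basicOpen_le (h x))).op (homOfLE hsub).op).hom (h x))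
    rw [e0]
    exact this
  have hrange : ∀ y, ν y ∈ ρ.range := by
    suffices ρ.range.comap ν = ⊤ by
      intro y
      exact (this ▸ Subring.mem_top y : y ∈ ρ.range.comap ν)
    rw [eq_top_iff, ← hG, Subring.closure_le]
    rintro y (⟨r, rfl⟩ | hy)
    · exact ⟨π r, (hνπ r).symm⟩
    obtain ⟨a, ha⟩ := hGa y hy
    have hmem : π a ∈ ((I ^ n).comap pr).ideal (A x) :=
      hle (A x) (by
        rw [Lib.Ideal.Comap.ideal_comap pr _ Wx (A x) (hAW x)]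
        refine Ideal.mem_map_of_mem _ (Ideal.subset_span ⟨_, ?_, y, ha⟩)
        rw [Scheme.IdealSheafData.ideal_pow, Pi.pow_apply, show I.ideal Wx = _ from hspan]
        exact Ideal.pow_mem_pow (Ideal.mem_span_singleton_self _) n)
    rw [Lib.Ideal.Comap.ideal_comap pr _ Wx (A x) (hAW x), Scheme.IdealSheafData.ideal_pow, Pi.pow_apply,
      show I.ideal Wx = _ from hspan, Ideal.span_singleton_pow, Ideal.map_span, Set.image_singleton,
      Ideal.mem_span_singleton] at hmem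
    obtain ⟨b, hb⟩ := hmem
    refine ⟨b, ?_⟩
    have h1 : ρ (π a) = k.appLE (Q.ι ⁻¹ᵁ Wx.1) ⊤ eK (ρW Wx.1 (h x)) ^ n * ν y := by
      refine (appLE_B pr (hAW x) eK a).trans ?_
      rw [show ρW Wx.1 a = _ from ha, map_mul, map_pow, map_pow]
      rfl
    rw [show π a = pr.appLE Wx.1 (A x).1 (hAW x) (h x ^ n) * b from hb, map_mul, map_pow, map_pow,
      show ρ (pr.appLE Wx.1 (A x).1 (hAW x) (h x)) = _ from appLE_B pr (hAW x) eK (h x)] at h1
    exact ((hunit.map (k.appLE (Q.ι ⁻¹ᵁ Wx.1) ⊤ eK).hom).pow n).mul_left_cancel h1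
  choose θ hθ using hrange
  let θ' : Γ(Y, V) →+* Γ(P', (A x).1) :=
    { toFun := θ
      map_one' := hρ (by rw [hθ, map_one, map_one])
      map_mul' := fun a b => hρ (by rw [hθ, map_mul ν, map_mul ρ, hθ, hθ])
      map_zero' := hρ (by rw [hθ, map_zero, map_zero])
      map_add' := fun a b => hρ (by rw [hθ, map_add ν, map_add ρ, hθ, hθ]) }
  haveI : IsAffine (A x).1.toScheme := (A x).2
  let φ : (A x).1.toScheme ⟶ Y :=
    (A x).1.toScheme.toSpecΓ ≫ Spec.map (CommRingCat.ofHom θ' ≫ (A x).1.topIso.inv) ≫ hV.fromSpec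
  have eφ : (⊤ : (A x).1.toScheme.Opens) ≤ φ ⁻¹ᵁ V := by
    rw [Scheme.Hom.comp_preimage, Scheme.Hom.comp_preimage, hV.fromSpec_preimage_self]
    exact le_rfl
  have hφ : φ.appLE V ⊤ eφ = CommRingCat.ofHom θ' ≫ (A x).1.topIso.inv := by
    have h0 : φ.appLE V ⊤ eφ = (hV.fromSpec.appLE V ⊤ (by rw [hV.fromSpec_preimage_self]) ≫
        (Spec.map (CommRingCat.ofHom θ' ≫ (A x).1.topIso.inv)).appTop) ≫ (A x).1.toScheme.toSpecΓ.appTop := by
      rw [show ((A x).1.toScheme.toSpecΓ).appTop = ((A x).1.toScheme.toSpecΓ).appLE ⊤ ⊤ le_rfl from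
          Scheme.Hom.app_eq_appLE _,
        show (Spec.map (CommRingCat.ofHom θ' ≫ (A x).1.topIso.inv)).appTop =
          (Spec.map (CommRingCat.ofHom θ' ≫ (A x).1.topIso.inv)).appLE ⊤ ⊤ le_rfl from Scheme.Hom.app_eq_appLE _,
        Scheme.Hom.appLE_comp_appLE, Scheme.Hom.appLE_comp_appLE]
    rw [h0, ZeroContent.fromSpec_appLE, ← Scheme.ΓSpecIso_inv_naturality, Scheme.toSpecΓ_appTop,
      Category.assoc, Iso.inv_hom_id, Category.comp_id]
  have eW : ∀ z : (A x).1.toScheme, pr ((A x).1.ι z) ∈ Wx.1 := fun z => hAW x z.2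
  have hp : φ ≫ p = (A x).1.ι ≫ pr := by
    refine ext_of_appLE Wx.2 (by rw [Scheme.Hom.comp_preimage]; exact eφ) (fun z _ => eW z) ?_
    rw [← Scheme.Hom.appLE_comp_appLE φ p Wx.1 V ⊤ le_rfl eφ,
      ← Scheme.Hom.appLE_comp_appLE _ pr Wx.1 (A x).1 ⊤ (hAW x) (by rw [Scheme.Opens.ι_preimage_self]), hφ,
      ← Scheme.Hom.app_eq_appLE, Scheme.Opens.ι_appLE]
    ext r
    show (A x).1.topIso.inv (θ (p.app Wx.1 r)) = _
    rw [show θ (p.app Wx.1 r) = π r from hρ (by rw [hθ, hνπ])]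
    rfl
  refine ⟨φ, hp, fun C u k' hk' => ?_⟩
  have hr : Set.range (u ≫ (A x).1.ι) ⊆ Set.range B.ι := by
    rintro _ ⟨z, rfl⟩
    rw [Scheme.Opens.range_ι]
    refine ⟨(u z).2, ?_⟩
    show pr ((A x).1.ι (u z)) ∈ Q
    rw [← Scheme.Hom.comp_apply, ← Scheme.Hom.comp_apply, hk', Scheme.Hom.comp_apply]
    exact (k' z).2
  let l := IsOpenImmersion.lift B.ι (u ≫ (A x).1.ι) hr
  let j : (B : Scheme.{u}) ⟶ (A x).1.toScheme := P'.homOfLE inf_le_left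
  have hlj : l ≫ j = u := by
    rw [← cancel_mono (A x).1.ι, Category.assoc, Scheme.homOfLE_ι, IsOpenImmersion.lift_fac]
  have hlk : l ≫ k = k' := by
    rw [← cancel_mono Q.ι, Category.assoc, ← kB_ι, IsOpenImmersion.lift_fac_assoc, Category.assoc, ← hk']
  have hj : j ≫ φ = k ≫ s := by
    have e1 : (⊤ : B.toScheme.Opens) ≤ (j ≫ φ) ⁻¹ᵁ V := by
      rw [Scheme.Hom.comp_preimage]
      exact fun z _ => eφ (Opens.mem_top _)
    have e2 : (⊤ : B.toScheme.Opens) ≤ (k ≫ s) ⁻¹ᵁ V := by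
      rw [Scheme.Hom.comp_preimage, ← Scheme.Hom.comp_preimage s p, hs]
      exact eK
    refine ext_of_appLE hV e1 e2 ?_
    rw [← Scheme.Hom.appLE_comp_appLE j φ V ⊤ ⊤ eφ (fun z _ => trivial), hφ, Category.assoc,
      ← Scheme.Hom.appLE_comp_appLE k s V (Q.ι ⁻¹ᵁ Wx.1) ⊤
        (by rw [← Scheme.Hom.comp_preimage, hs]) eK]
    ext y
    show j.appLE ⊤ ⊤ _ ((A x).1.topIso.inv (θ y)) = ν y
    rw [← hθ y]
    have h2 : (A x).1.topIso.inv ≫ j.appLE ⊤ ⊤ (fun z _ => trivial) =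
        B.ι.appLE (A x).1 ⊤ (fun (z : B.toScheme) _ => z.2.1) := by
      have h3 : (A x).1.topIso.inv = (A x).1.ι.appLE (A x).1 ⊤ (by rw [Scheme.Opens.ι_preimage_self]) := by
        rw [Scheme.Opens.ι_appLE]
        rfl
      rw [h3, Scheme.Hom.appLE_comp_appLE]
      exact appLE_congr_hom (P'.homOfLE_ι _) _ _ _
    exact congr($(h2).hom (θ y))
  rw [← hlj, Category.assoc, hj, ← Category.assoc, hlk]

include hQ in
/-- Generators of the target over an affine chart of the divisor. -/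
theorem exists_isData [LocallyOfFiniteType p] (W : P.affineOpens) (h : Γ(P, W.1))
    (hspan : I.ideal W = Ideal.span {h}) : ∃ n, ∀ n', n ≤ n' → IsData p s hs I n' W h := by
  classical
  have hft := LocallyOfFiniteType.finiteType_appLE p W.2 (W.2.preimage p) (le_refl (p ⁻¹ᵁ W.1))
  rw [← Scheme.Hom.app_eq_appLE] at hft
  letI := (p.app W.1).hom.toAlgebra
  obtain ⟨G, hG⟩ := (hft : Algebra.FiniteType Γ(P, W.1) Γ(Y, p ⁻¹ᵁ W.1)).out
  have e : Q.ι ''ᵁ (Q.ι ⁻¹ᵁ W.1) = P.basicOpen h := by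
    ext z
    constructor
    · rintro ⟨z, hz, rfl⟩
      by_contra hcon
      refine (SetLike.ext_iff.1 hQ (Q.ι z)).1 z.2
        ((Scheme.IdealSheafData.mem_support_iff_of_mem (show Q.ι z ∈ W.1 from hz)).2 ?_)
      rw [hspan, Ideal.span, P.zeroLocus_span, Scheme.mem_zeroLocus_iff]
      intro f hf
      rw [Set.mem_singleton_iff.1 hf]
      exact hcon
    · intro hz
      have hzW : z ∈ W.1 := P.basicOpen_le h hz
      have hzQ : z ∈ Q := (SetLike.ext_iff.1 hQ z).2 fun hs' =>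
        (P.mem_zeroLocus_iff _ _).1 ((Scheme.IdealSheafData.mem_support_iff_of_mem hzW).1 hs') h
          (hspan ▸ Ideal.mem_span_singleton_self h) hz
      exact ⟨⟨z, hzQ⟩, hzW, rfl⟩
  have hle : Q.ι ''ᵁ (Q.ι ⁻¹ᵁ W.1) ≤ W.1 := e.le.trans (P.basicOpen_le h)
  letI : Algebra Γ(P, W.1) Γ(P, Q.ι ''ᵁ (Q.ι ⁻¹ᵁ W.1)) := (P.presheaf.map (homOfLE hle).op).hom.toAlgebra
  haveI : IsLocalization.Away h Γ(P, Q.ι ''ᵁ (Q.ι ⁻¹ᵁ W.1)) :=
    W.2.isLocalization_of_eq_basicOpen h (homOfLE hle) e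
  have hρ : ∀ r, ρW (Q := Q) W.1 r = algebraMap Γ(P, W.1) Γ(P, Q.ι ''ᵁ (Q.ι ⁻¹ᵁ W.1)) r := fun r => by
    rw [ρW, Scheme.Opens.ι_appLE]
    rfl
  have hy : ∀ y : Γ(Y, p ⁻¹ᵁ W.1), ∃ m : ℕ, ∃ a, Rel p s hs W.1 a (h ^ m) y := fun y => by
    obtain ⟨⟨a, ⟨_, m, rfl⟩⟩, ha⟩ := IsLocalization.surj (Submonoid.powers h)
      (show Γ(P, Q.ι ''ᵁ (Q.ι ⁻¹ᵁ W.1)) from σW p s hs W.1 y)
    refine ⟨m, a, ?_⟩
    show ρW W.1 a = _
    rw [hρ, hρ, ← ha, mul_comm]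
  choose m a ha using hy
  refine ⟨G.sup m, fun n' hn' => ⟨hspan, (G : Set _), ?_, fun y hy => ⟨a y * h ^ (n' - m y), ?_⟩⟩⟩
  · have := congrArg Subalgebra.toSubring hG
    rw [Algebra.adjoin_eq_ring_closure, Algebra.top_toSubring] at this
    exact this
  · have hy' := ha y
    unfold Rel at hy' ⊢
    rw [map_mul, hy', show n' = m y + (n' - m y) by have := (Finset.le_sup (f := m) hy).trans hn'; omega,
      pow_add, map_mul, Nat.add_sub_cancel_left]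
    exact mul_right_comm _ _ _

end

end Groth.Agent.H47.Extend
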