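import Groth.Agent.H47.Extend.Locus
import Groth.Agent.Lib.Ideal.EffCartier
import Groth.Agent.Lib.Ideal.Comap

/-!
# Extending sections of affine morphisms across effective Cartier divisors
-/

set_option autoImplicit false
set_option linter.style.haveILetI false
set_option backward.isDefEq.respectTransparency false

universe u

open CategoryTheory CategoryTheory.Limits AlgebraicGeometry TopologicalSpace Opposite
open Groth.Agent.Lib Groth.Agent.Lib.Ideal.EffCartier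

namespace Groth.Agent.H47.Extend

noncomputable section

theorem appLE_congr_hom {X Y : Scheme.{u}} {f g : X ⟶ Y} (h : f = g) (U : Y.Opens) (V : X.Opens)
    (e : V ≤ f ⁻¹ᵁ U) : f.appLE U V e = g.appLE U V (h ▸ e) := by subst h; rfl

/-- Morphisms landing in an affine open are determined on its sections. -/
theorem ext_of_appLE {Z Y : Scheme.{u}} {V : Y.Opens} (hV : IsAffineOpen V) {f g : Z ⟶ Y}
    (ef : (⊤ : Z.Opens) ≤ f ⁻¹ᵁ V) (eg : (⊤ : Z.Opens) ≤ g ⁻¹ᵁ V)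
    (h : f.appLE V ⊤ ef = g.appLE V ⊤ eg) : f = g := by
  haveI : IsAffine V.toScheme := hV
  have hr : ∀ (k : Z ⟶ Y), (⊤ : Z.Opens) ≤ k ⁻¹ᵁ V → Set.range k ⊆ Set.range V.ι := by
    rintro k e _ ⟨z, rfl⟩
    rw [Scheme.Opens.range_ι]
    exact e (Opens.mem_top z)
  have key : ∀ (k : Z ⟶ Y) (e : (⊤ : Z.Opens) ≤ k ⁻¹ᵁ V),
      (IsOpenImmersion.lift V.ι k (hr k e)).appTop = V.topIso.hom ≫ k.appLE V ⊤ e := by
    intro k e
    rw [← cancel_epi V.topIso.inv, Iso.inv_hom_id_assoc,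
      ← ZeroContent.comp_ι_appLE V _ (by rw [IsOpenImmersion.lift_fac]; exact e)]
    exact appLE_congr_hom (IsOpenImmersion.lift_fac _ _ _) _ _ _
  rw [← IsOpenImmersion.lift_fac V.ι f (hr f ef), ← IsOpenImmersion.lift_fac V.ι g (hr g eg),
    ext_of_isAffine ((key f ef).trans (by rw [h, key g eg]))]

variable {P Y : Scheme.{u}} {Q : P.Opens} (p : Y ⟶ P) (s : (Q : Scheme.{u}) ⟶ Y) (hs : s ≫ p = Q.ι)

/-- The section extends over a scheme over the target. -/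
def Ext {P' : Scheme.{u}} (pr : P' ⟶ P) : Prop :=
  ∃ f' : P' ⟶ Y, f' ≫ p = pr ∧
    ∀ (B : Scheme.{u}) (u : B ⟶ P') (k : B ⟶ Q), u ≫ pr = k ≫ Q.ι → u ≫ f' = k ≫ s

theorem ext_mono {P' P'' : Scheme.{u}} {pr : P' ⟶ P} (h : Ext p s pr) (m : P'' ⟶ P') {pr' : P'' ⟶ P}
    (hm : m ≫ pr = pr') : Ext p s pr' := by
  obtain ⟨f', h1, h2⟩ := h
  refine ⟨m ≫ f', by rw [Category.assoc, h1, hm], fun B u k hk => ?_⟩
  rw [← Category.assoc]
  exact h2 B (u ≫ m) k (by rw [Category.assoc, hm, hk])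

theorem ext_iff {P' : Scheme.{u}} (pr : P' ⟶ P) :
    Ext p s pr ↔ ∃ f' : P' ⟶ Y, f' ≫ p = pr ∧ (pr ⁻¹ᵁ Q).ι ≫ f' = (pr ∣_ Q) ≫ s := by
  refine ⟨fun ⟨f', h1, h2⟩ => ⟨f', h1, h2 _ _ _ (morphismRestrict_ι pr Q).symm⟩, ?_⟩
  rintro ⟨f', h1, h2⟩
  refine ⟨f', h1, fun B u k hk => ?_⟩
  have hr : Set.range u ⊆ Set.range (pr ⁻¹ᵁ Q).ι := by
    rintro _ ⟨z, rfl⟩
    rw [Scheme.Opens.range_ι]
    show pr (u z) ∈ Q
    rw [← Scheme.Hom.comp_apply, hk, Scheme.Hom.comp_apply]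
    exact (k z).2
  have hl : IsOpenImmersion.lift (pr ⁻¹ᵁ Q).ι u hr ≫ (pr ∣_ Q) = k := by
    rw [← cancel_mono Q.ι, Category.assoc, morphismRestrict_ι, IsOpenImmersion.lift_fac_assoc, hk]
  calc u ≫ f' = IsOpenImmersion.lift (pr ⁻¹ᵁ Q).ι u hr ≫ (pr ⁻¹ᵁ Q).ι ≫ f' := by
        rw [IsOpenImmersion.lift_fac_assoc]
    _ = k ≫ s := by rw [h2, ← Category.assoc, hl]

variable (I : P.IdealSheafData) (hQ : Q = I.support.compl) {P' : Scheme.{u}} (pr : P' ⟶ P)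
  (hI : BlowUp.IsEffCartierIdeal (I.comap pr))

include hQ hI in
/-- Sections are determined away from the divisor. -/
theorem appLE_injective (A : P'.Opens) :
    Function.Injective ((A ⊓ pr ⁻¹ᵁ Q).ι.appLE A ⊤ (fun x _ => x.2.1)) := by
  rw [injective_iff_map_eq_zero]
  intro t ht
  refine eq_zero_of_germ_eq_zero_off hI t fun x hx hxs => ?_
  rw [Scheme.Opens.ι_appLE] at ht
  have hxQ : pr x ∈ Q := by
    rw [hQ]
    intro h
    exact hxs (by rw [Scheme.IdealSheafData.support_comap]; exact h)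
  have hx' : x ∈ (A ⊓ pr ⁻¹ᵁ Q).ι ''ᵁ ⊤ := by
    rw [Scheme.Opens.ι_image_top]
    exact ⟨hx, hxQ⟩
  rw [← TopCat.Presheaf.germ_res_apply P'.presheaf _ x hx' t]
  exact (congrArg (P'.presheaf.germ _ x hx') ht).trans (map_zero _)

/-- The map of a piece of the preimage of the open set. -/
def kB (B : P'.Opens) (h : B ≤ pr ⁻¹ᵁ Q) : (B : Scheme.{u}) ⟶ Q := pr.resLE Q B h

theorem kB_ι (B : P'.Opens) (h : B ≤ pr ⁻¹ᵁ Q) : B.ι ≫ pr = kB pr B h ≫ Q.ι :=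
  (Scheme.Hom.resLE_comp_ι _ _).symm

include hQ hI in
/-- Extensions are unique. -/
theorem ext_unique [IsAffineHom p] {f₁ f₂ : P' ⟶ Y} (h₁ : f₁ ≫ p = pr) (h₂ : f₂ ≫ p = pr)
    (h : ∀ (B : Scheme.{u}) (u : B ⟶ P') (k : B ⟶ Q), u ≫ pr = k ≫ Q.ι → u ≫ f₁ = u ≫ f₂) : f₁ = f₂ := by
  have hloc : ∀ x : P', ∃ A : P'.Opens, x ∈ A ∧ A.ι ≫ f₁ = A.ι ≫ f₂ := by
    intro x
    obtain ⟨W, hW, hxW, -⟩ := exists_isAffineOpen_mem_and_subset (show pr x ∈ (⊤ : P.Opens) from trivial)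
    let A : P'.Opens := pr ⁻¹ᵁ W
    let B : P'.Opens := A ⊓ pr ⁻¹ᵁ Q
    have e₁ : A ≤ f₁ ⁻¹ᵁ (p ⁻¹ᵁ W) := by rw [← Scheme.Hom.comp_preimage, h₁]
    have e₂ : A ≤ f₂ ⁻¹ᵁ (p ⁻¹ᵁ W) := by rw [← Scheme.Hom.comp_preimage, h₂]
    refine ⟨A, hxW, ext_of_appLE (hW.preimage p) (fun z _ => e₁ z.2) (fun z _ => e₂ z.2) ?_⟩
    have hA : ∀ (f : P' ⟶ Y) (e : A ≤ f ⁻¹ᵁ (p ⁻¹ᵁ W)), (A.ι ≫ f).appLE (p ⁻¹ᵁ W) ⊤ (fun z _ => e z.2) =
        f.appLE (p ⁻¹ᵁ W) A e ≫ A.ι.appLE A ⊤ (fun z _ => z.2) := fun f e =>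
      (Scheme.Hom.appLE_comp_appLE _ _ _ _ _ _ _).symm
    rw [hA f₁ e₁, hA f₂ e₂]
    congr 1
    ext y
    refine appLE_injective I hQ pr hI A ?_
    have hB : ∀ (f : P' ⟶ Y) (e : A ≤ f ⁻¹ᵁ (p ⁻¹ᵁ W)), B.ι.appLE A ⊤ (fun z _ => z.2.1) (f.appLE (p ⁻¹ᵁ W) A e y) =
        (B.ι ≫ f).appLE (p ⁻¹ᵁ W) ⊤ (fun z _ => e z.2.1) y := fun f e =>
      congr($(Scheme.Hom.appLE_comp_appLE B.ι f (p ⁻¹ᵁ W) A ⊤ e (fun z _ => z.2.1)).hom y)
    rw [hB f₁ e₁, hB f₂ e₂]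
    exact congr($(appLE_congr_hom (h _ B.ι (kB pr B inf_le_right) (kB_ι pr B inf_le_right)) _ ⊤ _).hom y)
  choose A hxA hA using hloc
  exact Scheme.Cover.hom_ext (Scheme.openCoverOfIsOpenCover P' A
    (eq_top_iff.2 fun x _ => Opens.mem_iSup.2 ⟨x, hxA x⟩)) _ _ hA

include hQ hI in
/-- Extensions glue. -/
theorem ext_of_cover [IsAffineHom p] {ι : Type u} (A : ι → P'.Opens) (hA : ∀ x : P', ∃ i, x ∈ A i)
    (h : ∀ i, Ext p s ((A i).ι ≫ pr)) : Ext p s pr := by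
  choose f hf hfk using h
  let 𝒰 := Scheme.openCoverOfIsOpenCover P' A (eq_top_iff.2 fun x _ => Opens.mem_iSup.2 (hA x))
  have hcompat : ∀ i j : ι, pullback.fst (A i).ι (A j).ι ≫ f i = pullback.snd (A i).ι (A j).ι ≫ f j := by
    intro i j
    refine ext_unique p I hQ (pullback.fst (A i).ι (A j).ι ≫ (A i).ι ≫ pr) ?_ ?_ ?_ ?_
    · haveI : IsOpenImmersion (pullback.fst (A i).ι (A j).ι) := inferInstance
      rw [← Category.assoc, Scheme.IdealSheafData.comap_comp]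
      exact isEffCartier_comap_of_flat (pullback.fst (A i).ι (A j).ι ≫ (A i).ι) hI
    · rw [Category.assoc, hf]
    · rw [Category.assoc, hf, pullback.condition_assoc]
    · intro B u k hk
      rw [← Category.assoc, ← Category.assoc, hfk i B _ k (by simpa using hk),
        hfk j B _ k (by rw [Category.assoc, ← pullback.condition_assoc]; exact hk)]
  refine ⟨𝒰.glueMorphisms f hcompat, Scheme.Cover.hom_ext 𝒰 _ _ fun i => ?_, fun B u k hk => ?_⟩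
  · rw [← Category.assoc, Scheme.Cover.ι_glueMorphisms]
    exact hf i
  · refine Scheme.Cover.hom_ext (𝒰.pullback₁ u) _ _ fun i => ?_
    show pullback.fst u (A i).ι ≫ u ≫ _ = pullback.fst u (A i).ι ≫ k ≫ s
    rw [pullback.condition_assoc]
    have hg : (A i).ι ≫ 𝒰.glueMorphisms f hcompat = f i := 𝒰.ι_glueMorphisms f hcompat i
    rw [hg]
    rw [hfk i _ (pullback.snd u (A i).ι) (pullback.fst u (A i).ι ≫ k)
      (by rw [← pullback.condition_assoc, hk, Category.assoc]), Category.assoc]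

end

end Groth.Agent.H47.Extend
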