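import Groth.Agent.H47.Extend.Ext
import Groth.Agent.Lib.RelDiv.Diff

/-!
# The ideal of obstructions to extending a section across a divisor
-/

set_option autoImplicit false
set_option linter.style.haveILetI false
set_option backward.isDefEq.respectTransparency false

universe u

open CategoryTheory CategoryTheory.Limits AlgebraicGeometry TopologicalSpace Opposite
open Groth.Agent.Lib Groth.Agent.Lib.Ideal.EffCartier

namespace Groth.Agent.H47.Extend

noncomputable section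

variable {P Y : Scheme.{u}} {Q : P.Opens} (p : Y ⟶ P) (s : (Q : Scheme.{u}) ⟶ Y) (hs : s ≫ p = Q.ι)

/-- Functions on the open part of `W`. -/
abbrev ρW (W : P.Opens) : Γ(P, W) ⟶ Γ(Q.toScheme, Q.ι ⁻¹ᵁ W) := Q.ι.appLE W (Q.ι ⁻¹ᵁ W) le_rfl

/-- The section on functions. -/
def σW (W : P.Opens) : Γ(Y, p ⁻¹ᵁ W) ⟶ Γ(Q.toScheme, Q.ι ⁻¹ᵁ W) :=
  s.appLE (p ⁻¹ᵁ W) (Q.ι ⁻¹ᵁ W) (by rw [← Scheme.Hom.comp_preimage, hs])

theorem σW_app (W : P.Opens) (r : Γ(P, W)) : σW p s hs W (p.app W r) = ρW W r := by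
  have e : p.app W = p.appLE W (p ⁻¹ᵁ W) le_rfl := p.app_eq_appLE
  rw [σW, e, ← CommRingCat.comp_apply, Scheme.Hom.appLE_comp_appLE]
  exact congr($(appLE_congr_hom hs _ _ _).hom r)

theorem ρW_res {W V : P.Opens} (h : V ≤ W) :
    P.presheaf.map (homOfLE h).op ≫ ρW (Q := Q) V =
      ρW W ≫ Q.toScheme.presheaf.map (homOfLE (Q.ι.preimage_mono h)).op := by
  rw [ρW, ρW, Scheme.Hom.map_appLE, Scheme.Hom.appLE_map]

theorem σW_res {W V : P.Opens} (h : V ≤ W) :
    Y.presheaf.map (homOfLE (p.preimage_mono h)).op ≫ σW p s hs V =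
      σW p s hs W ≫ Q.toScheme.presheaf.map (homOfLE (Q.ι.preimage_mono h)).op := by
  rw [σW, σW, Scheme.Hom.map_appLE, Scheme.Hom.appLE_map]

/-- `a` is the product of `c` with the value of the section. -/
def Rel (W : P.Opens) (a c : Γ(P, W)) (y : Γ(Y, p ⁻¹ᵁ W)) : Prop :=
  ρW W a = ρW W c * σW p s hs W y

theorem rel_res {W V : P.Opens} (h : V ≤ W) {a c : Γ(P, W)} {y : Γ(Y, p ⁻¹ᵁ W)} (hr : Rel p s hs W a c y) :
    Rel p s hs V (P.presheaf.map (homOfLE h).op a) (P.presheaf.map (homOfLE h).op c)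
      (Y.presheaf.map (homOfLE (p.preimage_mono h)).op y) := by
  unfold Rel at hr ⊢
  rw [← CommRingCat.comp_apply, ← CommRingCat.comp_apply, ← CommRingCat.comp_apply, ρW_res h, σW_res p s hs h,
    CommRingCat.comp_apply, CommRingCat.comp_apply, CommRingCat.comp_apply, hr, map_mul]

variable (J : P.IdealSheafData)

/-- The generators of the obstruction ideal. -/
def gens (W : P.affineOpens) : Set Γ(P, W.1) :=
  {a | ∃ c ∈ J.ideal W, ∃ y, Rel p s hs W.1 a c y}

theorem map_gens_le {W V : P.affineOpens} (h : V.1 ≤ W.1) {a : Γ(P, W.1)} (ha : a ∈ gens p s hs J W) :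
    P.presheaf.map (homOfLE h).op a ∈ gens p s hs J V := by
  obtain ⟨c, hc, y, hy⟩ := ha
  exact ⟨_, J.ideal_le_comap_ideal h hc, _, rel_res p s hs h hy⟩

variable (I : P.IdealSheafData) (hQ : Q = I.support.compl) (hI : BlowUp.IsEffCartierIdeal I)

include hQ hI in
theorem isCompact_preimage (W : P.affineOpens) : IsCompact (Q.ι ⁻¹ᵁ W.1 : Set Q.toScheme) := by
  rw [Q.ι.isEmbedding.isCompact_iff]
  obtain ⟨t, ht⟩ := RelDiv.Diff.fg_of_isEffCartier hI W
  have e : Q.ι '' (Q.ι ⁻¹ᵁ W.1 : Set Q.toScheme) = ⋃ g ∈ t, (P.basicOpen g : Set P) := by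
    ext x
    simp only [Set.mem_iUnion]
    constructor
    · rintro ⟨z, hz, rfl⟩
      have hzQ : (Q.ι z) ∉ I.support := fun hh => (SetLike.ext_iff.1 hQ (Q.ι z)).1 z.2 hh
      by_contra hcon
      push Not at hcon
      refine hzQ ((Scheme.IdealSheafData.mem_support_iff_of_mem (show Q.ι z ∈ W.1 from hz)).2 ?_)
      rw [← ht, Ideal.span, P.zeroLocus_span, Scheme.mem_zeroLocus_iff]
      exact hcon
    · rintro ⟨g, hg, hxg⟩
      have hxW : x ∈ W.1 := P.basicOpen_le g hxg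
      have hxQ : x ∈ Q := by
        rw [hQ]
        intro hs'
        have := (P.mem_zeroLocus_iff _ _).1 ((Scheme.IdealSheafData.mem_support_iff_of_mem hxW).1 hs') g
          (ht ▸ Submodule.subset_span hg)
        exact this hxg
      exact ⟨⟨x, hxQ⟩, hxW, rfl⟩
  rw [e]
  exact t.finite_toSet.isCompact_biUnion fun g _ => (W.2.basicOpen g).isCompact

variable [IsAffineHom p]

include hQ hI in
theorem map_span_gens (W : P.affineOpens) (g : Γ(P, W.1)) :
    (Ideal.span (gens p s hs J W)).map (P.presheaf.map (homOfLE (P.basicOpen_le g)).op).hom =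
      Ideal.span (gens p s hs J (P.affineBasicOpen g)) := by
  have hle := P.basicOpen_le g
  refine le_antisymm ?_ (Ideal.span_le.2 fun a' ha' => ?_)
  · rw [Ideal.map_span, Ideal.span_le]
    rintro _ ⟨a, ha, rfl⟩
    exact Ideal.subset_span (map_gens_le p s hs J hle ha)
  obtain ⟨c', hc', y', hrel⟩ := ha'
  let V : P.Opens := P.basicOpen g
  let r : Γ(P, W.1) →+* Γ(P, V) := (P.presheaf.map (homOfLE hle).op).hom
  letI : Algebra Γ(P, W.1) Γ(P, V) := r.toAlgebra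
  haveI : IsLocalization.Away g Γ(P, V) := W.2.isLocalization_of_eq_basicOpen g (homOfLE hle) rfl
  let g' := p.app W.1 g
  change Γ(P, V) at c' a'
  change Γ(Y, p ⁻¹ᵁ V) at y'
  let rY : Γ(Y, p ⁻¹ᵁ W.1) →+* Γ(Y, p ⁻¹ᵁ V) := (Y.presheaf.map (homOfLE (p.preimage_mono hle)).op).hom
  letI : Algebra Γ(Y, p ⁻¹ᵁ W.1) Γ(Y, p ⁻¹ᵁ V) := rY.toAlgebra
  haveI : IsLocalization.Away g' Γ(Y, p ⁻¹ᵁ V) :=
    (W.2.preimage p).isLocalization_of_eq_basicOpen g' (homOfLE (p.preimage_mono hle))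
      (Scheme.preimage_basicOpen p g)
  have hcmem : c' ∈ Ideal.map (algebraMap Γ(P, W.1) Γ(P, V)) (J.ideal W) :=
    (J.map_ideal_basicOpen W g).symm.le hc'
  obtain ⟨⟨⟨c, hc⟩, ⟨_, m, rfl⟩⟩, hcm⟩ := (IsLocalization.mem_map_algebraMap_iff (Submonoid.powers g) _).1 hcmem
  obtain ⟨⟨a, ⟨_, k, rfl⟩⟩, hak⟩ := IsLocalization.surj (Submonoid.powers g) a'
  obtain ⟨⟨y, ⟨_, n, rfl⟩⟩, hyn⟩ := IsLocalization.surj (Submonoid.powers g') y'
  change c' * r (g ^ m) = r c at hcm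
  change a' * r (g ^ k) = r a at hak
  change y' * rY (g' ^ n) = rY y at hyn
  let rQ : Γ(Q.toScheme, Q.ι ⁻¹ᵁ W.1) →+* Γ(Q.toScheme, Q.ι ⁻¹ᵁ V) :=
    (Q.toScheme.presheaf.map (homOfLE (Q.ι.preimage_mono hle)).op).hom
  have hρr : ∀ z, ρW V (r z) = rQ (ρW W.1 z) := fun z => congr($(ρW_res (Q := Q) hle).hom z)
  have hσr : ∀ z, σW p s hs V (rY z) = rQ (σW p s hs W.1 z) := fun z => congr($(σW_res p s hs hle).hom z)
  let u := ρW (Q := Q) W.1 g
  have hσg : σW p s hs W.1 g' = u := σW_app p s hs W.1 g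
  let a₁ := a * g ^ (m + n)
  let c₁ := c * g ^ k
  let δ := ρW W.1 a₁ - ρW W.1 c₁ * σW p s hs W.1 y
  have hδ : rQ δ = 0 := by
    have h1 := congrArg (ρW (Q := Q) V) hcm
    have h2 := congrArg (ρW (Q := Q) V) hak
    have h3 := congrArg (σW p s hs V) hyn
    simp only [map_mul, map_pow, hρr, hσr, hσg] at h1 h2 h3
    have h4 : ρW V a' = ρW V c' * σW p s hs V y' := hrel
    simp only [δ, a₁, c₁, map_sub, map_mul, map_pow]
    rw [← h1, ← h2, ← h3, h4]
    ring
  obtain ⟨N, hN⟩ := exists_pow_mul_eq_zero_of_res_basicOpen_eq_zero_of_isCompact Q.toScheme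
    (U := Q.ι ⁻¹ᵁ W.1) (isCompact_preimage I hQ hI W) δ u (by
      have hu : Q.toScheme.basicOpen u = Q.ι ⁻¹ᵁ V := by
        rw [Scheme.preimage_basicOpen, Scheme.Hom.app_eq_appLE]
      have := congrArg (Q.toScheme.presheaf.map (homOfLE hu.le).op) hδ
      rw [map_zero] at this
      refine Eq.trans ?_ this
      show Q.toScheme.presheaf.map _ δ = Q.toScheme.presheaf.map _ (Q.toScheme.presheaf.map _ δ)
      rw [← CommRingCat.comp_apply, ← Functor.map_comp]
      rfl)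
  let a₂ := a₁ * g ^ N
  have ha₂ : a₂ ∈ gens p s hs J W := by
    refine ⟨c₁ * g ^ N, Ideal.mul_mem_right _ _ (Ideal.mul_mem_right _ _ hc), y, ?_⟩
    show ρW W.1 a₂ = _
    have h5 : u ^ N * (ρW W.1 a₁ - ρW W.1 c₁ * σW p s hs W.1 y) = 0 := hN
    simp only [a₂, map_mul, map_pow]
    linear_combination h5
  have hmem : r a₂ ∈ (Ideal.span (gens p s hs J W)).map r := Ideal.mem_map_of_mem _ (Ideal.subset_span ha₂)
  have hu : IsUnit (r g ^ (k + (m + n) + N)) :=
    (IsLocalization.Away.algebraMap_isUnit (S := Γ(P, V)) g).pow _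
  refine (Ideal.mul_unit_mem_iff_mem _ hu).1 ?_
  have : a' * r g ^ (k + (m + n) + N) = r a₂ := by
    simp only [a₂, a₁, map_mul, map_pow, ← hak]
    ring
  rw [this]
  exact hmem

/-- The obstruction ideal sheaf. -/
def K : P.IdealSheafData where
  ideal W := Ideal.span (gens p s hs J W)
  map_ideal_basicOpen W g := map_span_gens p s hs J I hQ hI W g

end

end Groth.Agent.H47.Extend
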