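import Groth.Agent.H47.ZeroContent.Glue
import Groth.Agent.Lib.ClSub.Sections
import Groth.Agent.Lib.Ample.QAffCrit
import Groth.Agent.Lib.Modules.FreeStalk
import Groth.Agent.Lib.TensorMod.FPConv
import Groth.Agent.Lib.TensorMod.LocFree
import Groth.Prelude.Def_PicLoc
import Mathlib.AlgebraicGeometry.Morphisms.Flat

/-!
# The locus where an ideal sheaf vanishes, for proper flat morphisms
-/

set_option autoImplicit false
set_option linter.style.haveILetI false
set_option backward.isDefEq.respectTransparency false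

universe u

open CategoryTheory CategoryTheory.Limits AlgebraicGeometry TopologicalSpace
open Groth.Agent.Lib Groth.Agent.Lib.Modules

namespace Groth.Agent.H47.Extend

noncomputable section

variable {X S : Scheme.{u}}

theorem isFlatOver_structureModule (f : X ⟶ S) [Flat f] : FlatMod.IsFlatOver f (Coh.structureModule X) := by
  intro x
  have hbij : Function.Bijective (FreeStalk.unitStalkToRing x) := by
    refine ⟨fun a b hab => ?_, fun r => ?_⟩
    · obtain ⟨U, hU, r, rfl⟩ := TopCat.Presheaf.exists_germ_eq (Coh.structureModule X).presheaf a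
      obtain ⟨V, hV, r', rfl⟩ := TopCat.Presheaf.exists_germ_eq (Coh.structureModule X).presheaf b
      rw [FreeStalk.unitStalkToRing_germ, FreeStalk.unitStalkToRing_germ] at hab
      obtain ⟨W, hW, iU, iV, hres⟩ := TopCat.Presheaf.germ_eq X.presheaf x hU hV r r' hab
      rw [← TopCat.Presheaf.germ_res_apply (Coh.structureModule X).presheaf iU x hW r,
        ← TopCat.Presheaf.germ_res_apply (Coh.structureModule X).presheaf iV x hW r']
      exact congrArg _ hres
    · obtain ⟨U, hU, s, rfl⟩ := TopCat.Presheaf.exists_germ_eq X.presheaf r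
      exact ⟨(Coh.structureModule X).presheaf.germ U x hU s, FreeStalk.unitStalkToRing_germ hU s⟩
  unfold FlatMod.IsFlatOverAt
  letI := FlatMod.moduleStalkOver f (Coh.structureModule X) x
  letI : Algebra (S.presheaf.stalk (f x)) (X.presheaf.stalk x) := (f.stalkMap x).hom.toAlgebra
  haveI : Module.Flat (S.presheaf.stalk (f x)) (X.presheaf.stalk x) := Flat.stalkMap f x
  let l : (Coh.structureModule X).presheaf.stalk x →ₗ[S.presheaf.stalk (f x)] X.presheaf.stalk x :=
    { toFun := FreeStalk.unitStalkToRing x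
      map_add' := fun a b => map_add _ a b
      map_smul' := fun r v => FreeStalk.unitStalkToRing_smul x (f.stalkMap x r) v }
  exact Module.Flat.of_linearEquiv (LinearEquiv.ofBijective l hbij)

theorem pullback_map_idealModι_eq_zero_iff {D Y : Scheme.{u}} (j : D ⟶ Y) (K : Y.IdealSheafData) :
    (Scheme.Modules.pullback j).map (_root_.ClSub.idealModι K) = 0 ↔ K.comap j = ⊥ := by
  let adj := Scheme.Modules.pullbackPushforwardAdjunction j
  let χ : (Scheme.Modules.pullback j).obj (_root_.ClSub.idealMod K) ⟶ Coh.structureModule D :=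
    (Scheme.Modules.pullback j).map (_root_.ClSub.idealModι K) ≫ (PicLoc.pullbackStructureIso j).hom
  have hχ : ∀ (U : Y.Opens) (m : Γ(_root_.ClSub.idealMod K, U)),
      (adj.homEquiv _ _ χ).app U m = j.app U ((_root_.ClSub.idealModι K).app U m) := by
    intro U m
    have h : adj.homEquiv _ _ χ =
        _root_.ClSub.idealModι K ≫ adj.homEquiv _ _ (PicLoc.pullbackStructureIso j).hom :=
      Adjunction.homEquiv_naturality_left _ _ _
    have h2 : adj.homEquiv _ _ (PicLoc.pullbackStructureIso j).hom =
        SheafOfModules.unitToPushforwardObjUnit j.toRingCatSheafHom :=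
      (adj.homEquiv _ _).apply_symm_apply _
    rw [h, h2]
    rfl
  rw [← le_bot_iff, ← Scheme.IdealSheafData.le_map_iff_comap_le, Scheme.IdealSheafData.map_bot]
  constructor
  · intro h0
    rw [Scheme.Hom.ker, Scheme.IdealSheafData.le_ofIdeals_iff]
    intro U a ha
    rw [RingHom.mem_ker]
    obtain ⟨m, rfl⟩ := (ClSub.Sections.mem_range_idealModι_app_affine_iff K U a).2 ha
    rw [← hχ]
    have : χ = 0 := by show _ ≫ _ = 0; rw [h0, zero_comp]
    rw [this, show adj.homEquiv _ _ (0 : (Scheme.Modules.pullback j).obj (_root_.ClSub.idealMod K) ⟶ _) = 0 by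
      rw [Adjunction.homEquiv_unit, Functor.map_zero, comp_zero]]
    rfl
  · intro hle
    rw [← cancel_mono (PicLoc.pullbackStructureIso j).hom, zero_comp]
    refine (adj.homEquiv _ _).injective ?_
    rw [show adj.homEquiv _ _ (0 : (Scheme.Modules.pullback j).obj (_root_.ClSub.idealMod K) ⟶ _) = 0 by
      rw [Adjunction.homEquiv_unit, Functor.map_zero, comp_zero]]
    refine Scheme.Modules.hom_ext _ _ fun U => ?_
    ext m
    refine (hχ U m).trans ?_
    show j.app U ((_root_.ClSub.idealModι K).app U m) = 0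
    refine TopCat.Sheaf.eq_of_locally_eq' D.sheaf (fun W : {W : Y.affineOpens // W.1 ≤ U} => j ⁻¹ᵁ W.1.1) (j ⁻¹ᵁ U)
      (fun W => homOfLE (j.preimage_mono W.2)) (fun x hx => ?_) _ _ fun W => ?_
    · obtain ⟨_, ⟨W, hW, rfl⟩, hxW, hWU⟩ :=
        Y.isBasis_affineOpens.exists_subset_of_mem_open (show j x ∈ U from hx) U.2
      exact Opens.mem_iSup.2 ⟨⟨⟨W, hW⟩, hWU⟩, hxW⟩
    · rw [map_zero]
      have hnat := congr($(j.naturality (homOfLE W.2).op) ((_root_.ClSub.idealModι K).app U m))
      refine hnat.symm.trans ?_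
      refine RingHom.mem_ker.1 (j.ideal_ker_le W.1 (hle W.1 ?_))
      refine (ClSub.Sections.mem_range_idealModι_app_affine_iff K W.1 _).1
        ⟨(_root_.ClSub.idealMod K).presheaf.map (homOfLE W.2).op m, ?_⟩
      exact congr($((_root_.ClSub.idealModι K).mapPresheaf.naturality (homOfLE W.2).op) m)

/-- The locus where an ideal sheaf vanishes on a proper flat scheme is closed. -/
theorem exists_closed_ideal (f : X ⟶ S) [IsProper f] [LocallyOfFinitePresentation f] [Flat f]
    (K : X.IdealSheafData) :
    ∃ (C : Scheme.{u}) (i : C ⟶ S), IsClosedImmersion i ∧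
      ∀ (T : Scheme.{u}) (g : T ⟶ S), (∃ h : T ⟶ C, h ≫ i = g) ↔ K.comap (pullback.fst f g) = ⊥ := by
  haveI := Ample.QAffCrit.isQCoh_idealMod K
  have hFP : CohB1.IsFP (Coh.structureModule X) := TensorMod.FPConv.isFP_of_isFinLocFree fun x => by
    obtain ⟨U, hU, e⟩ := TensorMod.LocFree.of_isInvertible (PicLoc.isInvertible_structureModule X) x
    exact ⟨U, 1, hU, e⟩
  obtain ⟨C, i, hi, h⟩ := ZeroContent.exists_closed f (_root_.ClSub.idealModι K) hFP
    (isFlatOver_structureModule f)
  exact ⟨C, i, hi, fun T g => (h T g).trans (pullback_map_idealModι_eq_zero_iff _ K)⟩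

end

end Groth.Agent.H47.Extend
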