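import Groth.Agent.H47.Extend.Crit
import Groth.Agent.Lib.RelDiv.Sum
import Groth.Agent.Lib.AlgSpDiv.RelBaseChange
import Groth.Agent.Lib.Lim.IdealFP

/-!
# The locus over which a section extends across a relative divisor
-/

set_option autoImplicit false
set_option linter.style.haveILetI false
set_option backward.isDefEq.respectTransparency false

universe u

open CategoryTheory CategoryTheory.Limits AlgebraicGeometry TopologicalSpace Opposite
open Groth.Agent.Lib

namespace Groth.Agent.H47.Extend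

noncomputable section

theorem le_ker_of_appLE {T S : Scheme.{u}} [IsAffine T] (g : T ⟶ S) (K : S.IdealSheafData)
    (U : S.affineOpens) (e : (⊤ : T.Opens) ≤ g ⁻¹ᵁ U.1)
    (h : K.ideal U ≤ RingHom.ker (g.appLE U.1 ⊤ e).hom) : K ≤ g.ker := by
  rw [← Scheme.IdealSheafData.map_bot, Scheme.IdealSheafData.le_map_iff_comap_le]
  have h1 := Lib.Ideal.Comap.ideal_comap g K U ⟨⊤, isAffineOpen_top T⟩ e
  refine Scheme.IdealSheafData.le_of_isAffine ?_
  rw [h1]
  exact Ideal.map_le_iff_le_comap.2 fun a ha => by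
    rw [Ideal.mem_comap, show (g.appLE U.1 ⊤ e).hom a = 0 from h ha]
    exact Submodule.zero_mem _

set_option maxHeartbeats 1000000 in
/-- A condition on affine schemes over `S` that is closed over every affine open is closed. -/
theorem exists_closed_of_affine {S : Scheme.{u}} (Φ : ∀ {T : Scheme.{u}}, (T ⟶ S) → Prop)
    (hmono : ∀ {T T' : Scheme.{u}} (g : T ⟶ S) (m : T' ⟶ T), Φ g → Φ (m ≫ g))
    (hloc : ∀ {T : Scheme.{u}} [IsAffine T] (g : T ⟶ S) {ι : Type u} (W : ι → T.Opens),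
      (∀ t, ∃ i, t ∈ W i) → (∀ i, Φ ((W i).ι ≫ g)) → Φ g)
    (hC : ∀ U : S.affineOpens, ∃ (C : Scheme.{u}) (i : C ⟶ S), IsClosedImmersion i ∧
      ∀ (T : Scheme.{u}) [IsAffine T] (g : T ⟶ S), (⊤ : T.Opens) ≤ g ⁻¹ᵁ U.1 →
        ((∃ h : T ⟶ C, h ≫ i = g) ↔ Φ g)) :
    ∃ (Z : Scheme.{u}) (i : Z ⟶ S), IsClosedImmersion i ∧
      ∀ (T : Scheme.{u}) (g : T ⟶ S), IsAffine T → ((∃ h : T ⟶ Z, h ≫ i = g) ↔ Φ g) := by
  choose C i hi hCU using hC
  let J : ∀ U : S.affineOpens, Ideal Γ(S, U.1) := fun U => (i U).ker.ideal U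
  have hJ : ∀ (U : S.affineOpens) (T : Scheme.{u}) [IsAffine T] (g : T ⟶ S) (e : (⊤ : T.Opens) ≤ g ⁻¹ᵁ U.1),
      Φ g ↔ J U ≤ RingHom.ker (g.appLE U.1 ⊤ e).hom := by
    intro U T _ g e
    haveI := hi U
    rw [← hCU U T g e]
    constructor
    · rintro ⟨h, rfl⟩ a ha
      have ha' : (i U).app U.1 a = 0 := RingHom.mem_ker.1 ((i U).ideal_ker_le U ha)
      rw [RingHom.mem_ker]
      have h2 : (h ≫ i U).appLE U.1 ⊤ e = (i U).app U.1 ≫ h.appLE ((i U) ⁻¹ᵁ U.1) ⊤ e := by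
        rw [Scheme.Hom.app_eq_appLE, Scheme.Hom.appLE_comp_appLE]
      show (h ≫ i U).appLE U.1 ⊤ e a = 0
      rw [h2, CommRingCat.comp_apply, ha', map_zero]
    · intro hle
      have hk : (i U).ker ≤ g.ker := le_ker_of_appLE g (i U).ker U e hle
      exact ⟨IsClosedImmersion.lift (i U) g hk, IsClosedImmersion.lift_fac _ _ _⟩
  have hmap : ∀ (U V : S.affineOpens) (h : V.1 ≤ U.1),
      (J U).map (S.presheaf.map (homOfLE h).op).hom = J V := by
    intro U V h
    have test : ∀ K : Ideal Γ(S, V.1),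
        J V ≤ K ↔ J U ≤ K.comap (S.presheaf.map (homOfLE h).op).hom := by
      intro K
      let g : Spec (CommRingCat.of (Γ(S, V.1) ⧸ K)) ⟶ S :=
        Spec.map (CommRingCat.ofHom (Ideal.Quotient.mk K)) ≫ V.2.fromSpec
      have eV : (⊤ : (Spec (CommRingCat.of (Γ(S, V.1) ⧸ K))).Opens) ≤ g ⁻¹ᵁ V.1 := by
        rw [Scheme.Hom.comp_preimage, IsAffineOpen.fromSpec_preimage_self, Scheme.Hom.preimage_top]
      have eU : (⊤ : (Spec (CommRingCat.of (Γ(S, V.1) ⧸ K))).Opens) ≤ g ⁻¹ᵁ U.1 :=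
        eV.trans (g.preimage_mono h)
      have h1 : g.appLE V.1 ⊤ eV =
          CommRingCat.ofHom (Ideal.Quotient.mk K) ≫ (Scheme.ΓSpecIso (CommRingCat.of (Γ(S, V.1) ⧸ K))).inv := by
        have h0 : g.appLE V.1 ⊤ eV = (IsAffineOpen.fromSpec (U := V.1) V.2).appLE V.1 ⊤
              (by rw [IsAffineOpen.fromSpec_preimage_self]) ≫
            (Spec.map (CommRingCat.ofHom (Ideal.Quotient.mk K))).appTop := by
          rw [Scheme.Hom.appTop, Scheme.Hom.app_eq_appLE, Scheme.Hom.appLE_comp_appLE]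
          rfl
        rw [h0, ZeroContent.fromSpec_appLE, Scheme.ΓSpecIso_inv_naturality]
        rfl
      have hker : RingHom.ker (g.appLE V.1 ⊤ eV).hom = K := by
        rw [h1]
        exact (ZeroContent.ker_comp_ΓSpecIso_inv _).trans Ideal.mk_ker
      rw [← hker, ← hJ V _ g eV, hJ U _ g eU, ← Scheme.Hom.map_appLE g eV (homOfLE h).op,
        CommRingCat.hom_comp, ← RingHom.comap_ker]
    exact le_antisymm (Ideal.map_le_iff_le_comap.2 ((test _).1 le_rfl))
      ((test _).2 Ideal.le_comap_map)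
  let I : S.IdealSheafData :=
    { ideal := J
      map_ideal_basicOpen := fun U a => hmap U (S.affineBasicOpen a) (S.basicOpen_le a) }
  refine ⟨I.subscheme, I.subschemeι, inferInstance, fun T g hT => ⟨?_, fun hz => ?_⟩⟩
  · rintro ⟨h, hfac⟩
    let κ := {W : T.affineOpens // ∃ U : S.affineOpens, W.1 ≤ g ⁻¹ᵁ U.1}
    refine hloc g (fun W : κ => W.1.1) (fun t => ?_) fun W => ?_
    · obtain ⟨U, W, -, htW, -, -, hle⟩ := Lib.Ideal.Comap.exists_affine_le_preimage g t (W := ⊤) trivial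
        (U := ⊤) trivial
      exact ⟨⟨W, U, hle⟩, htW⟩
    · obtain ⟨⟨W, hW⟩, U, hWU⟩ := W
      haveI : IsAffine W.toScheme := hW
      have e : (⊤ : W.toScheme.Opens) ≤ (W.ι ≫ g) ⁻¹ᵁ U.1 := by
        rintro x -
        exact hWU x.2
      refine (hJ U _ (W.ι ≫ g) e).2 fun a ha => ?_
      rw [show J U = I.ideal U from rfl, ← I.ker_subschemeι_app U, RingHom.mem_ker] at ha
      subst hfac
      have e1 : (⊤ : W.toScheme.Opens) ≤ (W.ι ≫ h) ⁻¹ᵁ (I.subschemeι ⁻¹ᵁ U.1) := e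
      show (W.ι ≫ h ≫ I.subschemeι).appLE U.1 ⊤ e a = 0
      have h2 : (W.ι ≫ h ≫ I.subschemeι).appLE U.1 ⊤ e =
          I.subschemeι.app U.1 ≫ (W.ι ≫ h).appLE _ ⊤ e1 := by
        simp only [← Category.assoc]
        rw [Scheme.Hom.app_eq_appLE, Scheme.Hom.appLE_comp_appLE]
      rw [h2, CommRingCat.comp_apply, ha, map_zero]
  · have hle : I.subschemeι.ker ≤ g.ker := by
      rw [Scheme.IdealSheafData.ker_subschemeι, Scheme.Hom.ker, Scheme.IdealSheafData.le_ofIdeals_iff]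
      intro U a ha
      rw [RingHom.mem_ker]
      let κ := {W : T.affineOpens // W.1 ≤ g ⁻¹ᵁ U.1}
      refine TopCat.Sheaf.eq_of_locally_eq' T.sheaf (fun W : κ => W.1.1) (g ⁻¹ᵁ U.1) (fun W => homOfLE W.2)
        (fun t ht => ?_) _ _ fun W => ?_
      · obtain ⟨_, ⟨W, hW, rfl⟩, htW, hWU⟩ :=
          T.isBasis_affineOpens.exists_subset_of_mem_open ht (g ⁻¹ᵁ U.1).2
        exact Opens.mem_iSup.2 ⟨⟨⟨W, hW⟩, hWU⟩, htW⟩
      · obtain ⟨⟨W, hW⟩, hWU⟩ := W
        haveI : IsAffine W.toScheme := hW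
        have e : (⊤ : W.toScheme.Opens) ≤ (W.ι ≫ g) ⁻¹ᵁ U.1 := by
          rintro x -
          exact hWU x.2
        have h0 : (W.ι ≫ g).appLE U.1 ⊤ e a = 0 := (hJ U _ (W.ι ≫ g) e).1 (hmono g W.ι hz) ha
        rw [← Scheme.Hom.appLE_comp_appLE W.ι g U.1 W ⊤ hWU (by rw [Scheme.Opens.ι_preimage_self]),
          Scheme.Opens.ι_appLE, CommRingCat.comp_apply] at h0
        rw [map_zero]
        refine W.topIso.symm.commRingCatIsoToRingEquiv.injective ?_
        rw [map_zero]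
        exact h0
    exact ⟨IsClosedImmersion.lift I.subschemeι g hle, IsClosedImmersion.lift_fac _ _ _⟩

theorem flat_pow {P S : Scheme.{u}} (π : P ⟶ S) (I : P.IdealSheafData) (hI : BlowUp.IsEffCartierIdeal I)
    [Flat (I.subschemeι ≫ π)] : ∀ n : ℕ, Flat ((I ^ n).subschemeι ≫ π)
  | 0 => by
    rw [pow_zero, Scheme.IdealSheafData.one_eq_top]
    infer_instance
  | n + 1 => by
    haveI := flat_pow π I hI n
    rw [pow_succ']
    exact RelDiv.Sum.flat_mul π hI (I ^ n)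

set_option maxHeartbeats 1000000 in
/-- The locus over which a section defined off a relative divisor extends is closed. -/
theorem exists_closed_ext {P S Y : Scheme.{u}} (π : P ⟶ S) [IsProper π] [LocallyOfFinitePresentation π]
    (p : Y ⟶ P) [IsAffineHom p] [LocallyOfFiniteType p] (I : P.IdealSheafData)
    (hI : BlowUp.IsEffCartierIdeal I) [Flat (I.subschemeι ≫ π)] {Q : P.Opens} (hQ : Q = I.support.compl)
    (s : (Q : Scheme.{u}) ⟶ Y) (hs : s ≫ p = Q.ι) :
    ∃ (Z : Scheme.{u}) (i : Z ⟶ S), IsClosedImmersion i ∧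
      ∀ (T : Scheme.{u}) (g : T ⟶ S), IsAffine T →
        ((∃ h : T ⟶ Z, h ≫ i = g) ↔ Ext p s (pullback.fst π g)) := by
  classical
  have hI' : ∀ {T : Scheme.{u}} (g : T ⟶ S), BlowUp.IsEffCartierIdeal (I.comap (pullback.fst π g)) :=
    fun g => AlgSpDiv.isEffCartier_comap_of_relFlat (IsPullback.of_hasPullback π g) hI
  refine exists_closed_of_affine (fun {T} g => Ext p s (pullback.fst π g)) (fun {T T'} g m h => ?_)
    (fun {T} _ g {ι} W hW h => ?_) fun U => ?_
  · exact ext_mono p s h (pullback.lift (pullback.fst π (m ≫ g)) (pullback.snd π (m ≫ g) ≫ m)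
      (by rw [pullback.condition, Category.assoc])) (pullback.lift_fst _ _ _)
  · refine ext_of_cover p s I hQ _ (hI' g) (fun i => pullback.snd π g ⁻¹ᵁ W i)
      (fun x => hW (pullback.snd π g x)) fun i => ?_
    refine ext_mono p s (h i) (pullback.lift ((pullback.snd π g ⁻¹ᵁ W i).ι ≫ pullback.fst π g)
      (pullback.snd π g ∣_ W i) ?_) (pullback.lift_fst _ _ _)
    rw [Category.assoc, pullback.condition, ← Category.assoc, ← Category.assoc, morphismRestrict_ι]
  -- the charts over `U`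
  have hch : ∀ x : P, π x ∈ U.1 → ∃ (W : P.affineOpens) (h : Γ(P, W.1)),
      x ∈ W.1 ∧ I.ideal W = Ideal.span {h} := fun x hx => by
    obtain ⟨W, hxW, -, h, -, hh⟩ := Lib.Ideal.EffCartier.exists_gen hI x (W := π ⁻¹ᵁ U.1) hx
    exact ⟨W, h, hxW, hh⟩
  choose W h hxW hspan using hch
  choose m hm using fun x hx => exists_isData p s hs I hQ (W x hx) (h x hx) (hspan x hx)
  obtain ⟨t, ht⟩ := (π.isCompact_preimage U.2.isCompact).elim_finite_subcover
    (fun x : {x : P // π x ∈ U.1} => ((W x.1 x.2).1 : Set P)) (fun x => (W x.1 x.2).1.2)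
    (fun x hx => Set.mem_iUnion.2 ⟨⟨x, hx⟩, hxW x hx⟩)
  let n := t.sup fun x => m x.1 x.2
  let D := (I ^ n).subscheme
  let f := (I ^ n).subschemeι ≫ π
  haveI : Flat f := flat_pow π I hI n
  haveI : LocallyOfFinitePresentation (I ^ n).subschemeι := Lim.IdealFP.lfp_subschemeι _ fun V => by
    rw [Scheme.IdealSheafData.ideal_pow, Pi.pow_apply]
    exact (RelDiv.Diff.fg_of_isEffCartier hI V).pow
  let Kn := K p s hs (I ^ n) I hQ hI
  obtain ⟨C, i, hi, hC⟩ := exists_closed_ideal f (Kn.comap (I ^ n).subschemeι)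
  refine ⟨C, i, hi, fun T _ g hg => (hC T g).trans ?_⟩
  let pr := pullback.fst π g
  have hKer : (Kn.comap (I ^ n).subschemeι).comap (pullback.fst f g) = ⊥ ↔
      Kn.comap pr ≤ (I ^ n).comap pr := by
    let e : ((I ^ n).comap pr).subscheme ≅ pullback f g :=
      (I ^ n).comapIso pr ≪≫ pullbackSymmetry _ _ ≪≫ pullbackRightPullbackFstIso π g (I ^ n).subschemeι
    have he : e.hom ≫ pullback.fst f g ≫ (I ^ n).subschemeι = ((I ^ n).comap pr).subschemeι ≫ pr := by
      simp only [e, f, pr, Iso.trans_hom, Category.assoc, pullbackRightPullbackFstIso_hom_fst_assoc,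
        pullbackSymmetry_hom_comp_fst_assoc, ← pullback.condition,
        Scheme.IdealSheafData.comapIso_hom_fst_assoc]
    rw [← Scheme.IdealSheafData.comap_comp, ← le_bot_iff, ← Scheme.IdealSheafData.le_map_iff_comap_le,
      Scheme.IdealSheafData.map_bot, ← Scheme.Hom.ker_comp_of_isIso e.hom, he]
    rw [← Scheme.IdealSheafData.le_map_iff_comap_le]
    rfl
  refine hKer.trans ⟨fun hle => ext_of_comap_K_le p s hs I hQ pr (hI' g) hI n (fun y => ?_) hle,
    fun h => comap_K_le_of_ext p s hs I hQ pr (hI' g) hI (I ^ n) h⟩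
  have hy : π (pr y) ∈ U.1 := by
    rw [← Scheme.Hom.comp_apply, pullback.condition, Scheme.Hom.comp_apply]
    exact hg (Opens.mem_top _)
  obtain ⟨x, hxt, hxy⟩ := Set.mem_iUnion₂.1 (ht hy)
  exact ⟨W x.1 x.2, h x.1 x.2, hxy, hm x.1 x.2 n (Finset.le_sup (f := fun x => m x.1 x.2) hxt)⟩

end

end Groth.Agent.H47.Extend
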